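/-
Lifts of the relations of the presented Harada-Norton group to a central extension.
-/
import Cfsg.Prelude.Def_Spor_HN
import Cfsg.Prelude.Def_KGroupFacts
import Cfsg.Prelude.Def_SporadicB

set_option autoImplicit false

namespace CfsgLib.HNMult

open Cfsg
open scoped commutatorElement

/-- Two lifts of a perfect group to a central extension are equal. -/
theorem lift_unique {P G Γ : Type*} [Group P] [Group G] [Group Γ] {σ : Γ →* G}
    (hc : σ.ker ≤ Subgroup.center Γ) (hP : commutator P = ⊤) {f g : P →* Γ}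
    (h : ∀ p, σ (f p) = σ (g p)) : f = g := by
  have hcen : ∀ p (w : Γ), w * (f p * (g p)⁻¹) = f p * (g p)⁻¹ * w := fun p w =>
    Subgroup.mem_center_iff.1 (hc (by rw [MonoidHom.mem_ker, map_mul, map_inv, h p, mul_inv_cancel])) w
  let d : P →* Γ :=
    { toFun := fun p => f p * (g p)⁻¹
      map_one' := by simp
      map_mul' := fun p q => by
        rw [map_mul, map_mul, mul_inv_rev]
        calc f p * f q * ((g q)⁻¹ * (g p)⁻¹) = f p * (f q * (g q)⁻¹) * (g p)⁻¹ := by simp [mul_assoc]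
          _ = f q * (g q)⁻¹ * f p * (g p)⁻¹ := by rw [hcen q (f p)]
          _ = f q * (g q)⁻¹ * (f p * (g p)⁻¹) := by simp [mul_assoc]
          _ = f p * (g p)⁻¹ * (f q * (g q)⁻¹) := (hcen q _).symm }
  have hd : commutator P ≤ d.ker := by
    rw [commutator_def, Subgroup.commutator_le]
    intro a _ b _
    rw [MonoidHom.mem_ker, map_commutatorElement, commutatorElement_eq_one_iff_mul_comm]
    exact hcen b (d a)
  refine MonoidHom.ext fun p => ?_
  have := hd (hP ▸ Subgroup.mem_top p)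
  rwa [MonoidHom.mem_ker, MonoidHom.coe_mk, OneHom.coe_mk, mul_inv_eq_one] at this

/-- A section over a perfect subgroup without proper perfect central extensions. -/
theorem exists_section {Γ G : Type} [Group Γ] [Group G] [Finite Γ] (σ : Γ →* G) (hs : Function.Surjective σ)
    (hc : σ.ker ≤ Subgroup.center Γ) (K : Subgroup G) (hK : commutator ↥K = ⊤)
    (huniv : ∀ (D : Type) [Group D] [Finite D] (π : D →* ↥K), Function.Surjective π →
      π.ker ≤ Subgroup.center D → commutator D = ⊤ → Function.Injective π) :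
    ∃ s : ↥K →* Γ, ∀ k : ↥K, σ (s k) = (k : G) := by
  let P := K.comap σ
  let D : Subgroup Γ := ⁅P, P⁆
  have hKK : ⁅K, K⁆ = K := by
    rw [← Subgroup.map_subtype_commutator, hK, ← MonoidHom.range_eq_map, Subgroup.range_subtype]
  have hmap : D.map σ = K := by
    rw [Subgroup.map_commutator, Subgroup.map_comap_eq_self_of_surjective hs, hKK]
  have hDP : D ≤ P := Subgroup.commutator_le_self P
  have hdec : ∀ p ∈ P, ∃ d ∈ D, ∃ a ∈ σ.ker, p = d * a := fun p hp => by
    obtain ⟨d, hd, hdp⟩ : σ p ∈ D.map σ := by rw [hmap]; exact hp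
    exact ⟨d, hd, d⁻¹ * p, by rw [MonoidHom.mem_ker, map_mul, map_inv, hdp, inv_mul_cancel], by simp⟩
  have hDD : D ≤ ⁅D, D⁆ := by
    rw [show D = ⁅P, P⁆ from rfl, Subgroup.commutator_le]
    intro p hp q hq
    obtain ⟨d, hd, a, ha, rfl⟩ := hdec p hp
    obtain ⟨e, he, b, hb, rfl⟩ := hdec q hq
    have ca := Subgroup.mem_center_iff.1 (hc ha)
    have cb := Subgroup.mem_center_iff.1 (hc hb)
    have : ⁅d * a, e * b⁆ = ⁅d, e⁆ := by
      simp only [commutatorElement_def, mul_inv_rev]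
      have ca' : ∀ w, a * w = w * a := fun w => (ca w).symm
      have cb' : ∀ w, b * w = w * b := fun w => (cb w).symm
      calc d * a * (e * b) * (a⁻¹ * d⁻¹) * (b⁻¹ * e⁻¹)
          = d * (a * (e * b)) * (a⁻¹ * d⁻¹) * (b⁻¹ * e⁻¹) := by simp [mul_assoc]
        _ = d * (e * b) * d⁻¹ * (b⁻¹ * e⁻¹) := by rw [ca']; simp [mul_assoc]
        _ = d * e * (b * d⁻¹) * (b⁻¹ * e⁻¹) := by simp [mul_assoc]
        _ = d * e * d⁻¹ * e⁻¹ := by rw [cb']; simp [mul_assoc]
    rw [this]
    exact Subgroup.commutator_mem_commutator hd he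
  have hD : commutator ↥D = ⊤ := by
    rw [eq_top_iff]
    intro d _
    have h : (d : Γ) ∈ (commutator ↥D).map D.subtype := by
      rw [Subgroup.map_subtype_commutator]; exact hDD d.2
    obtain ⟨d', hd', he⟩ := h
    rwa [← Subtype.ext (show ((d' : ↥D) : Γ) = d from he)]
  let r : ↥D →* ↥K := (σ.comp D.subtype).codRestrict K fun d => hDP d.2
  have hr : Function.Surjective r := fun k => by
    obtain ⟨d, hd, he⟩ : (k : G) ∈ D.map σ := by rw [hmap]; exact k.2
    exact ⟨⟨d, hd⟩, Subtype.ext he⟩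
  have hrc : r.ker ≤ Subgroup.center ↥D := fun d hd => by
    refine Subgroup.mem_center_iff.2 fun e => Subtype.ext (Subgroup.mem_center_iff.1 (hc ?_) _)
    exact congrArg Subtype.val (MonoidHom.mem_ker.1 hd)
  let e := MulEquiv.ofBijective r ⟨huniv _ r hr hrc hD, hr⟩
  refine ⟨D.subtype.comp e.symm.toMonoidHom, fun k => ?_⟩
  exact congrArg Subtype.val (e.apply_symm_apply k)

/-- A double cover of a perfect group with multiplier of order two has no proper perfect central extension. -/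
theorem cover_univ {Q K : Type} [Group Q] [Finite Q] [Group K] [Finite K] (hQ : commutator Q = ⊤)
    (hM : ∀ (Γ : Type) [Group Γ] [Finite Γ] (σ : Γ →* Q), IsStemExtension σ → Nat.card σ.ker ≤ 2)
    (hK : IsNonsplitDoubleCover K Q) :
    commutator K = ⊤ ∧ ∀ (D : Type) [Group D] [Finite D] (π : D →* K), Function.Surjective π →
      π.ker ≤ Subgroup.center D → commutator D = ⊤ → Function.Injective π := by
  obtain ⟨hcard, ⟨e⟩, hns⟩ := hK
  let ψ : K →* Q := e.toMonoidHom.comp (QuotientGroup.mk' (Subgroup.center K))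
  have hψ : Function.Surjective ψ := e.surjective.comp (QuotientGroup.mk'_surjective _)
  have hψk : ψ.ker = Subgroup.center K := by
    show (e.toMonoidHom.comp (QuotientGroup.mk' (Subgroup.center K))).ker = _
    exact (MonoidHom.ker_mulEquiv_comp _ e).trans (QuotientGroup.ker_mk' _)
  have hperf : commutator K = ⊤ := by
    by_contra hne
    have hsup : Subgroup.center K ⊔ commutator K = ⊤ := by
      rw [eq_top_iff]
      intro k _
      obtain ⟨c, hc, he⟩ : ψ k ∈ (commutator K).map ψ := by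
        rw [commutator_def, Subgroup.map_commutator, Subgroup.map_top_of_surjective ψ hψ, ← commutator_def, hQ]
        trivial
      rw [show k = k * c⁻¹ * c by simp]
      refine Subgroup.mul_mem_sup ?_ hc
      rw [← hψk, MonoidHom.mem_ker, map_mul, map_inv, he, mul_inv_cancel]
    rcases Subgroup.bot_or_nontrivial (Subgroup.center K ⊓ commutator K) with hb | hb
    · exact hns _ (Subgroup.isComplement'_of_disjoint_and_mul_eq_univ (disjoint_iff.2 hb)
        (by rw [← Subgroup.normal_mul, hsup, Subgroup.coe_top]))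
    · apply hne
      have h1 : Nat.card ↥(Subgroup.center K ⊓ commutator K) = 2 := by
        have hd := Subgroup.card_dvd_of_le (inf_le_left : Subgroup.center K ⊓ commutator K ≤ _)
        rw [hcard] at hd
        rcases (Nat.dvd_prime Nat.prime_two).1 hd with h | h
        · exact absurd h (Finite.one_lt_card_iff_nontrivial.2 hb).ne'
        · exact h
      have h2 : Subgroup.center K ⊓ commutator K = Subgroup.center K :=
        Subgroup.eq_of_le_of_card_ge inf_le_left (by rw [h1, hcard])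
      exact (sup_eq_right.2 (inf_eq_left.1 h2)).symm.trans hsup
  refine ⟨hperf, fun D _ _ π hπ hπc hD => ?_⟩
  let σ : D →* Q := ψ.comp π
  have hstem : IsStemExtension σ := by
    refine ⟨hψ.comp hπ, fun n hn => ?_, by rw [hD]; exact le_top⟩
    rw [MonoidHom.mem_ker, MonoidHom.comp_apply] at hn
    have hnZ : π n ∈ Subgroup.center K := by rw [← hψk]; exact hn
    have hcc : ∀ d, ⁅n, d⁆ ∈ Subgroup.center D := fun d => hπc (by
      rw [MonoidHom.mem_ker, map_commutatorElement, commutatorElement_eq_one_iff_mul_comm]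
      exact (Subgroup.mem_center_iff.1 hnZ _).symm)
    let c : D →* D :=
      { toFun := fun d => ⁅n, d⁆
        map_one' := by simp [commutatorElement_def]
        map_mul' := fun a b => by
          have h := Subgroup.mem_center_iff.1 (hcc b) a
          calc ⁅n, a * b⁆ = ⁅n, a⁆ * (a * ⁅n, b⁆ * a⁻¹) := by simp [commutatorElement_def, mul_assoc]
            _ = ⁅n, a⁆ * ⁅n, b⁆ := by rw [h, mul_inv_cancel_right] }
    refine Subgroup.mem_center_iff.2 fun d => ?_
    have hle : commutator D ≤ c.ker := by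
      rw [commutator_def, Subgroup.commutator_le]
      intro a _ b _
      rw [MonoidHom.mem_ker, map_commutatorElement, commutatorElement_eq_one_iff_mul_comm]
      exact (Subgroup.mem_center_iff.1 (hcc a) _).symm
    have := hle (hD ▸ Subgroup.mem_top d)
    exact (commutatorElement_eq_one_iff_mul_comm.1 this).symm
  have h2 := hM D σ hstem
  rw [← MonoidHom.ker_eq_bot_iff, ← Subgroup.card_eq_one]
  have h3 : Nat.card σ.ker = Nat.card ψ.ker * Nat.card π.ker := by
    have hle : π.ker ≤ σ.ker := fun d hd => by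
      rw [MonoidHom.mem_ker, MonoidHom.comp_apply, MonoidHom.mem_ker.1 hd, map_one]
    have hD' := (σ.ker).index_mul_card
    have hK' := (ψ.ker).index_mul_card
    have hP := (π.ker).index_mul_card
    have hσs : Function.Surjective σ := hψ.comp hπ
    rw [Subgroup.index_ker, MonoidHom.range_eq_top.2 hσs, Subgroup.card_top] at hD'
    rw [Subgroup.index_ker, MonoidHom.range_eq_top.2 hψ, Subgroup.card_top] at hK'
    rw [Subgroup.index_ker, MonoidHom.range_eq_top.2 hπ, Subgroup.card_top] at hP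
    have hQ0 : 0 < Nat.card Q := Nat.card_pos
    refine Nat.eq_of_mul_eq_mul_left hQ0 ?_
    rw [hD', ← mul_assoc, hK', hP]
  rw [hψk, hcard] at h3
  have : 0 < Nat.card π.ker := Nat.card_pos
  omega

/-- The relator value in a group. -/
theorem relator_eq_one {r : FreeGroup Spor.HN.Gen} (h : r ∈ Spor.HN.extra) :
    PresentedGroup.mk (Spor.coxRelators Spor.HN.edges ∪ {r | r ∈ Spor.HN.extra}) r = 1 :=
  PresentedGroup.one_of_mem (Or.inr h)

/-- The generators in the group. -/
abbrev gen (a : Spor.HN.Gen) : Spor.HN := PresentedGroup.of a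

/-- Words in four elements for the generators. -/
def four {Γ : Type*} (X Y Z T : Γ) : Spor.HN.Gen → Γ
  | .x => X
  | .y => Y
  | .z => Z
  | .t => T

/-- The lifts satisfy the relations. -/
theorem exists_hom {Γ : Type} [Group Γ] (σ : Γ →* Spor.HN) (hs : Function.Surjective σ)
    (hc : σ.ker ≤ Subgroup.center Γ) (K : Subgroup Spor.HN) (hx : gen .x ∈ K) (hy : gen .y ∈ K)
    (hz : ∀ k ∈ K, gen .z * k * (gen .z)⁻¹ ∈ K) (hK : commutator ↥K = ⊤)
    (hfour : gen .x ^ 4 = 1) (s : ↥K →* Γ) (hsec : ∀ k : ↥K, σ (s k) = (k : Spor.HN)) :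
    ∃ f : Spor.HN →* Γ, σ.comp f = MonoidHom.id _ := by
  have R : ∀ r ∈ Spor.HN.extra, FreeGroup.lift gen r = 1 := fun r hr => by
    rw [show FreeGroup.lift gen = PresentedGroup.mk (Spor.coxRelators Spor.HN.edges ∪ {r | r ∈ Spor.HN.extra}) from
      FreeGroup.ext_hom _ _ fun a => by rw [FreeGroup.lift_apply_of]; rfl]
    exact relator_eq_one hr
  simp only [Spor.HN.extra, List.mem_cons, List.not_mem_nil, or_false, forall_eq_or_imp, forall_eq,
    map_mul, map_pow, map_inv, Spor.HN.x, Spor.HN.y, Spor.HN.z, Spor.HN.t, FreeGroup.lift_apply_of] at R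
  obtain ⟨r1, r2, r3, r4, r5, r6, r7, r8, r9, r10, r11, r12, r13, r14⟩ := R
  set x := gen .x with hx'
  set y := gen .y with hy'
  set z := gen .z with hz'
  set t := gen .t with ht'
  have cen : ∀ a, σ a = 1 → ∀ w : Γ, Commute a w := fun a ha w => (Subgroup.mem_center_iff.1 (hc ha) w).symm
  let X : Γ := s ⟨x, hx⟩
  let Y : Γ := s ⟨y, hy⟩
  have σX : σ X = x := hsec _
  have σY : σ Y = y := hsec _
  obtain ⟨Z0, σZ0⟩ := hs z
  obtain ⟨T0, σT0⟩ := hs t
  -- the lift of t
  set c := X⁻¹ * T0 * X * T0 ^ 2 with hcdef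
  set e := T0 ^ 5 with hedef
  have σc : σ c = 1 := by simp only [hcdef, map_mul, map_inv, map_pow, σX, σT0]; exact r12
  have σe : σ e = 1 := by simp only [hedef, map_pow, σT0]; exact r11
  have hce : e ^ 3 = c ^ 5 := by
    have h1 : (X⁻¹ * T0 * X) ^ 5 = e := by
      have := conj_pow (i := 5) (a := X⁻¹) (b := T0)
      rw [inv_inv] at this
      rw [this, ← hedef, ← (cen e σe X⁻¹).eq, inv_mul_cancel_right]
    rw [show X⁻¹ * T0 * X = c * (T0 ^ 2)⁻¹ by rw [hcdef, mul_inv_cancel_right],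
      (cen c σc _).mul_pow, inv_pow, ← pow_mul, show 2 * 5 = 5 * 2 by norm_num, pow_mul, ← hedef] at h1
    calc e ^ 3 = e * e ^ 2 := by rw [← pow_succ']
      _ = c ^ 5 * (e ^ 2)⁻¹ * e ^ 2 := by rw [h1]
      _ = c ^ 5 := by rw [inv_mul_cancel_right]
  set d := (c ^ 2)⁻¹ * e with hddef
  have σd : σ d = 1 := by simp [hddef, σc, σe]
  set T := T0 * d with hTdef
  have σT : σ T = t := by simp [hTdef, σT0, σd]
  have hT5 : T ^ 5 = 1 := by
    rw [hTdef, ((cen d σd T0).symm).mul_pow, ← hedef, hddef, ((cen e σe _).symm).mul_pow, inv_pow, ← pow_mul,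
      ← mul_assoc, (cen e σe _).eq, mul_assoc, ← pow_succ', show 2 * 5 = 5 * 2 by norm_num,
      show 5 + 1 = 3 * 2 by norm_num, pow_mul, pow_mul, hce, inv_mul_cancel]
  have hTX : X⁻¹ * T * X * T ^ 2 = 1 := by
    have h1 : X⁻¹ * T * X * T ^ 2 = c * d ^ 3 := by
      have h2 : X⁻¹ * T * X = X⁻¹ * T0 * X * d := by
        rw [hTdef]; simp only [mul_assoc]; rw [(cen d σd X).eq]
      rw [h2, hTdef, ((cen d σd T0).symm).mul_pow, hcdef, mul_assoc (X⁻¹ * T0 * X) d,
        ← mul_assoc d, ← ((cen d σd (T0 ^ 2)).symm).eq]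
      simp [mul_assoc, ← pow_succ']
    rw [h1, hddef, ((cen e σe _).symm).mul_pow, inv_pow, ← pow_mul, hce, ← mul_assoc]
    group
  have hTY : T⁻¹ * Y⁻¹ * T * Y = 1 := by
    set f := T⁻¹ * Y⁻¹ * T * Y with hfdef
    have σf : σ f = 1 := by simp only [hfdef, map_mul, map_inv, σT, σY]; exact r13
    have hconj : Y⁻¹ * T * Y = T * f := by simp [hfdef, mul_assoc]
    have hf5 : f ^ 5 = 1 := by
      have := congrArg (· ^ 5) hconj
      have h' := conj_pow (i := 5) (a := Y⁻¹) (b := T)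
      rw [inv_inv] at h'
      simp only [h', hT5, mul_one, inv_mul_cancel, ((cen f σf T).symm).mul_pow, one_mul] at this
      exact this.symm
    have hiter : ∀ n : ℕ, (Y ^ n)⁻¹ * T * Y ^ n = T * f ^ n := by
      intro n
      induction n with
      | zero => simp
      | succ n ih =>
        calc (Y ^ (n + 1))⁻¹ * T * Y ^ (n + 1) = Y⁻¹ * ((Y ^ n)⁻¹ * T * Y ^ n) * Y := by
              rw [pow_succ]; simp [mul_assoc]
          _ = Y⁻¹ * T * Y * f ^ n := by rw [ih]; simp [mul_assoc, ((cen f σf Y).pow_left n).eq]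
          _ = T * f ^ (n + 1) := by rw [hconj, pow_succ']; simp [mul_assoc]
    have h6 : Y ^ 6 = 1 := by
      rw [show Y ^ 6 = s (⟨y, hy⟩ ^ 6) from (map_pow s _ 6).symm, show (⟨y, hy⟩ : ↥K) ^ 6 = 1 from Subtype.ext r1,
        map_one]
    have hf6 := hiter 6
    rw [h6, inv_one, one_mul, mul_one] at hf6
    have hf6' : f ^ 6 = 1 := mul_left_cancel (hf6.symm.trans (mul_one T).symm)
    rwa [pow_succ, hf5, one_mul] at hf6'
  clear_value T
  -- the lift of z
  set c0 := Z0 ^ 2 with hc0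
  set e0 := (Z0 * T) ^ 3 with he0
  have σc0 : σ c0 = 1 := by simp only [hc0, map_pow, σZ0]; exact r7
  have σe0 : σ e0 = 1 := by simp only [he0, map_pow, map_mul, σZ0, σT]; exact r14
  set a := c0 * e0⁻¹ with hadef
  have σa : σ a = 1 := by simp [hadef, σc0, σe0]
  set Z := Z0 * a with hZdef
  have σZ : σ Z = z := by simp [hZdef, σZ0, σa]
  set u := c0 ^ 3 * (e0 ^ 2)⁻¹ with hudef
  have hcom : Commute c0 e0⁻¹ := cen c0 σc0 _
  have hZ2 : Z ^ 2 = u := by
    rw [hZdef, ((cen a σa Z0).symm).mul_pow, ← hc0, hadef, hcom.mul_pow, inv_pow, ← mul_assoc, ← pow_succ', hudef]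
  have hZT : (Z * T) ^ 3 = u := by
    rw [hZdef, mul_assoc, (cen a σa T).eq, ← mul_assoc, ((cen a σa (Z0 * T)).symm).mul_pow, ← he0, hadef,
      hcom.mul_pow, ← mul_assoc, ((cen e0 σe0 (c0 ^ 3))).eq, mul_assoc, hudef]
    group
  have σu : σ u = 1 := by rw [← hZ2, map_pow, σZ]; exact r7
  clear_value Z u
  -- conjugation by z inside K
  have zz : z⁻¹ = z := inv_eq_of_mul_eq_one_right (by rw [← pow_two]; exact r7)
  let φ : ↥K →* ↥K :=
    { toFun := fun k => ⟨z * k * z⁻¹, hz k k.2⟩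
      map_one' := Subtype.ext (by simp)
      map_mul' := fun k l => Subtype.ext (by simp [mul_assoc]) }
  have hZs : ∀ k : ↥K, Z * s k * Z⁻¹ = s (φ k) := fun k => by
    have h := lift_unique hc hK (f := (MulAut.conj Z).toMonoidHom.comp s) (g := s.comp φ) fun k => by
      simp [hsec, σZ, φ]
    exact DFunLike.congr_fun h k
  let x2 : ↥K := ⟨x, hx⟩ * ⟨x, hx⟩
  have hx2 : (x2 : Spor.HN) = x ^ 2 := (pow_two x).symm
  have hzx : z * x * z = x⁻¹ := by
    rw [eq_inv_iff_mul_eq_one]
    calc z * x * z * x = (z * x) ^ 2 := by rw [pow_two]; simp [mul_assoc]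
      _ = 1 := r8
  have hZJ : Z * (X * X) * Z⁻¹ = X * X := by
    have h := hZs x2
    have e2 : φ x2 = x2 := Subtype.ext (by
      show z * (x2 : Spor.HN) * z⁻¹ = x2
      rw [hx2, ← conj_pow, zz, hzx, inv_pow, inv_eq_of_mul_eq_one_right]
      rw [← pow_add]; exact hfour)
    rw [e2] at h
    simpa only [x2, map_mul] using h
  have hJT : (X * X)⁻¹ * T * (X * X) = T⁻¹ := by
    have h1 : X⁻¹ * T * X = (T ^ 2)⁻¹ := eq_inv_of_mul_eq_one_left hTX
    calc (X * X)⁻¹ * T * (X * X) = X⁻¹ * (X⁻¹ * T * X) * X := by simp [mul_assoc]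
      _ = ((X⁻¹ * T * X) ^ 2)⁻¹ := by
        rw [h1]
        have h' := conj_pow (i := 2) (a := X⁻¹) (b := T)
        rw [inv_inv] at h'
        rw [← h1, h', h1, mul_inv_rev, mul_inv_rev, inv_inv, mul_assoc]
      _ = T ^ 4 := by rw [h1, inv_pow, inv_inv, ← pow_mul]
      _ = T⁻¹ := eq_inv_of_mul_eq_one_left (by rw [← pow_succ, hT5])
  have hu1 : u = 1 := by
    set J := X * X
    have hJZ : J⁻¹ * Z * J = Z := by
      calc J⁻¹ * Z * J = (Z * J * Z⁻¹)⁻¹ * Z * J := by rw [hZJ]
        _ = Z := by simp [mul_assoc]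
    have cuJ : J⁻¹ * u * J = u := by rw [mul_assoc, (cen u σu J).eq, inv_mul_cancel_left]
    have h1 : (Z * T⁻¹) ^ 3 = u := by
      have h := conj_pow (i := 3) (a := J⁻¹) (b := Z * T)
      rw [inv_inv, hZT, cuJ] at h
      rw [show Z * T⁻¹ = J⁻¹ * (Z * T) * J by
        calc Z * T⁻¹ = (J⁻¹ * Z * J) * (J⁻¹ * T * J) := by rw [hJZ, hJT]
          _ = J⁻¹ * (Z * T) * J := by simp [mul_assoc]]
      exact h
    have h2 : (Z * T⁻¹) ^ 3 = u ^ 2 := by
      have hZi : Z = u * Z⁻¹ := by rw [← hZ2, pow_two, mul_inv_cancel_right]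
      have hTZ : (T * Z) ^ 3 = u := by
        have h := conj_pow (i := 3) (a := T) (b := Z * T)
        rw [hZT, show T * (Z * T) * T⁻¹ = T * Z by simp [mul_assoc], ← (cen u σu T).eq, mul_inv_cancel_right] at h
        exact h
      calc (Z * T⁻¹) ^ 3 = (u * (T * Z)⁻¹) ^ 3 := by
            rw [show Z * T⁻¹ = u * (T * Z)⁻¹ by rw [mul_inv_rev, ← mul_assoc, ← hZi]]
        _ = u ^ 3 * u⁻¹ := by rw [(cen u σu _).mul_pow, inv_pow, hTZ]
        _ = u ^ 2 := by rw [pow_succ, mul_inv_cancel_right]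
    have := h1.symm.trans h2
    rw [pow_two] at this
    exact left_eq_mul.1 this
  rw [hu1] at hZ2 hZT
  have hZinv : Z⁻¹ = Z := inv_eq_of_mul_eq_one_right (by rw [← pow_two]; exact hZ2)
  -- values inside K
  have sval : ∀ k : ↥K, (k : Spor.HN) = 1 → s k = 1 := fun k hk => by
    rw [show k = 1 from Subtype.ext hk, map_one]
  let kx : ↥K := ⟨x, hx⟩
  let ky : ↥K := ⟨y, hy⟩
  let f : Spor.HN.Gen → Γ := four X Y Z T
  have lx : FreeGroup.lift f Spor.HN.x = X := FreeGroup.lift_apply_of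
  have ly : FreeGroup.lift f Spor.HN.y = Y := FreeGroup.lift_apply_of
  have lz : FreeGroup.lift f Spor.HN.z = Z := FreeGroup.lift_apply_of
  have lt : FreeGroup.lift f Spor.HN.t = T := FreeGroup.lift_apply_of
  have hrel : ∀ r ∈ Spor.coxRelators Spor.HN.edges ∪ {r | r ∈ Spor.HN.extra}, FreeGroup.lift f r = 1 := by
    rintro r (hr | hr)
    · obtain ⟨a, ha, -⟩ := hr
      simp [Spor.coxNodes, Spor.HN.edges] at ha
    revert r
    simp only [Set.mem_setOf_eq, Spor.HN.extra, List.mem_cons, List.not_mem_nil, or_false, forall_eq_or_imp,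
      forall_eq, map_mul, map_pow, map_inv, lx, ly, lz, lt]
    simp only [X, Y, ← map_mul, ← map_inv, ← map_pow]
    refine ⟨sval _ r1, sval _ r2, sval _ r3, sval _ r4, sval _ r5, sval _ r6, hZ2, ?_, ?_, ?_, hT5, ?_, ?_, hZT⟩
    rotate_left 3
    · simpa only [X, kx, map_inv] using hTX
    · simpa only [Y, ky, map_inv] using hTY
    · rw [pow_two, ← mul_assoc, show Z * s kx * Z = s (φ kx) by rw [← hZs]; rw [hZinv], ← map_mul]
      apply sval
      show z * x * z⁻¹ * x = 1
      rw [zz, hzx, inv_mul_cancel]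
    · rw [hZinv]
      set k : ↥K := ky * kx * ky * kx * ky ^ 2 * kx * ky⁻¹
      rw [show Z * (s k⁻¹) * Z = s (φ k⁻¹) by rw [← hZs]; rw [hZinv], ← map_mul, ← map_mul]
      apply sval
      show z * ((k : Spor.HN))⁻¹ * z⁻¹ * k * ((x ^ 2)⁻¹) = 1
      conv_lhs => rw [zz]; arg 1; arg 1; arg 1; arg 1; rw [← zz]
      exact r9
    · set g : ↥K := ky ^ 3 * kx * ky * kx * ky
      have hh : s g⁻¹ * Z * s g * s kx = Z * s (φ g⁻¹ * g * kx) := by
        rw [map_mul s (φ g⁻¹ * g) kx, map_mul s (φ g⁻¹) g, ← hZs, hZinv, map_inv]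
        rw [← mul_assoc, ← mul_assoc, ← mul_assoc, ← mul_assoc, ← pow_two, hZ2, one_mul]
      rw [hh]
      set k : ↥K := φ g⁻¹ * g * kx
      have hval : Z * (Z * s k) ^ 3 = s (k * φ k * k) := by
        rw [map_mul s (k * φ k) k, map_mul s k (φ k), ← hZs k, hZinv, pow_succ, pow_succ, pow_one]
        rw [show Z * (Z * s k * (Z * s k) * (Z * s k)) = Z ^ 2 * (s k * (Z * s k * Z) * s k) by
          rw [pow_two]; simp [mul_assoc], hZ2, one_mul]
      rw [hval]
      apply sval
      have hk : (k : Spor.HN) = z * ((g : Spor.HN))⁻¹ * z * g * x := by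
        show z * ((g : Spor.HN))⁻¹ * z⁻¹ * g * x = _
        rw [zz]
      show (k : Spor.HN) * (z * k * z⁻¹) * k = 1
      have hr10 : z * ((g : Spor.HN)⁻¹ * z * g * x) ^ 3 = 1 := r10
      have hz1 : z * z = 1 := by rw [← pow_two]; exact r7
      rw [zz, hk, ← hr10, pow_succ, pow_succ, pow_one]
      simp only [mul_assoc]
      simp only [← mul_assoc z z, hz1, one_mul]
  refine ⟨PresentedGroup.toGroup hrel, PresentedGroup.ext fun a => ?_⟩
  rw [MonoidHom.comp_apply, PresentedGroup.toGroup.of, MonoidHom.id_apply]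
  cases a
  · exact σX
  · exact σY
  · exact σZ
  · exact σT

end CfsgLib.HNMult
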