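/-
The multiplier of the Harada-Norton group from the structure of the subgroup on three generators.
-/
import Cfsg.Agent.HNMult.Lift
import Cfsg.Agent.HSMult.Main
import Cfsg.Agent.CentralCert.Assemble

set_option autoImplicit false

namespace CfsgLib.HNMult

open Cfsg
open scoped commutatorElement

/-- The subgroup on three generators. -/
abbrev three : Subgroup Spor.HN :=
  ((Subgroup.closure ({Spor.HN.x, Spor.HN.y, Spor.HN.z} : Set (FreeGroup Spor.HN.Gen))).map
    (PresentedGroup.mk (Spor.coxRelators Spor.HN.edges ∪ {r | r ∈ Spor.HN.extra})))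

attribute [local irreducible] CfsgLib.Leech.shortVecs CfsgLib.Leech.halfTable CfsgLib.Leech.quarterTable

/-- The equivalence of the two models of the Higman-Sims group. -/
noncomputable def hsEquiv : CfsgLib.OutConway.Hundred.H ≃* Spor.HS :=
  { toFun := fun g => ⟨g.1.1, ⟨g.1.2, g.2.1⟩, g.2.2⟩
    invFun := fun g => ⟨⟨g.1, g.2.1.1⟩, g.2.1.2, g.2.2⟩
    left_inv := fun g => rfl
    right_inv := fun g => rfl
    map_mul' := fun g h => rfl }

theorem perfect_hs : _root_.commutator Spor.HS = ⊤ := by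
  have h := Subgroup.map_commutator (⊤ : Subgroup CfsgLib.OutConway.Hundred.H) ⊤ hsEquiv.toMonoidHom
  rw [← commutator_def, CfsgLib.HSMult.perfect,
    Subgroup.map_top_of_surjective _ hsEquiv.surjective] at h
  exact h.symm

theorem hs_ker_le (Γ : Type) [Group Γ] [Finite Γ] (σ : Γ →* ↥Spor.HS) (hσ : IsStemExtension σ) :
    Nat.card σ.ker ≤ 2 := by
  obtain ⟨π, hπ⟩ :=
    (CfsgLib.CentralCert.hasSchur_of_equiv hsEquiv CfsgLib.HSMult.multiplier).2 Γ σ hσ
  calc Nat.card σ.ker ≤ Nat.card (Multiplicative (ZMod 2)) := Nat.card_le_card_of_surjective π hπ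
    _ = 2 := by simp

theorem finite_hs : Finite ↥Spor.HS := Finite.of_equiv _ hsEquiv.toEquiv

theorem gen_mem_three (a : Spor.HN.Gen) (ha : a = .x ∨ a = .y ∨ a = .z) : gen a ∈ three :=
  ⟨FreeGroup.of a, Subgroup.subset_closure (by rcases ha with rfl | rfl | rfl <;> simp), rfl⟩

theorem multiplier_of_facts [Finite Spor.HN] (K : Subgroup ↥three) (hn : K.Normal) (hi : K.index = 2)
    (hcov : IsNonsplitDoubleCover K Spor.HS) : HasCyclicSchurMultiplier Spor.HN 1 := by
  haveI := finite_hs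
  obtain ⟨hperf, huniv⟩ := cover_univ perfect_hs hs_ker_le hcov
  let xh : ↥three := ⟨gen .x, gen_mem_three _ (Or.inl rfl)⟩
  let yh : ↥three := ⟨gen .y, gen_mem_three _ (Or.inr (Or.inl rfl))⟩
  let zh : ↥three := ⟨gen .z, gen_mem_three _ (Or.inr (Or.inr rfl))⟩
  have R : ∀ r ∈ Spor.HN.extra, FreeGroup.lift gen r = 1 := fun r hr => by
    rw [show FreeGroup.lift gen = PresentedGroup.mk (Spor.coxRelators Spor.HN.edges ∪ {r | r ∈ Spor.HN.extra}) from
      FreeGroup.ext_hom _ _ fun a => by rw [FreeGroup.lift_apply_of]; rfl]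
    exact relator_eq_one hr
  simp only [Spor.HN.extra, List.mem_cons, List.not_mem_nil, or_false, forall_eq_or_imp, forall_eq,
    map_mul, map_pow, map_inv, Spor.HN.x, Spor.HN.y, Spor.HN.z, Spor.HN.t, FreeGroup.lift_apply_of] at R
  obtain ⟨r1, r2, r3, r4, r5, r6, r7, r8, r9, r10, r11, r12, r13, r14⟩ := R
  have e10 : zh * ((yh ^ 3 * xh * yh * xh * yh)⁻¹ * zh * (yh ^ 3 * xh * yh * xh * yh) * xh) ^ 3 = 1 := Subtype.ext r10
  have e4 : (xh⁻¹ * yh ^ 2 * xh * yh ^ 3) ^ 3 = 1 := Subtype.ext r4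
  have hyk : yh ∈ K := by
    have := K.one_mem
    rw [← e4] at this
    simpa [pow_succ, Subgroup.mul_mem_iff_of_index_two hi] using this
  have hxk : xh ∈ K := by
    have := K.one_mem
    rw [← e10] at this
    by_cases hz : zh ∈ K <;> simpa [pow_succ, Subgroup.mul_mem_iff_of_index_two hi, hyk, hz] using this
  let Kg : Subgroup Spor.HN := K.map three.subtype
  let eK : ↥K ≃* ↥Kg := K.equivMapOfInjective _ three.subtype_injective
  have hKperf : _root_.commutator ↥Kg = ⊤ := by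
    have h := Subgroup.map_commutator (⊤ : Subgroup ↥K) ⊤ eK.toMonoidHom
    rw [← commutator_def, hperf, Subgroup.map_top_of_surjective _ eK.surjective] at h
    exact h.symm
  -- the square of x is central of order at most two
  have hconj : ∀ h ∈ three, h * gen .x ^ 2 * h⁻¹ = gen .x ^ 2 ∨ h * gen .x ^ 2 * h⁻¹ = (gen .x ^ 2)⁻¹ := by
    have hy2 : gen .y * gen .x ^ 2 * (gen .y)⁻¹ = (gen .x ^ 2)⁻¹ := by
      rw [eq_inv_iff_mul_eq_one, mul_eq_one_comm]
      simpa [mul_assoc] using r2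
    have hz2 : gen .z * gen .x ^ 2 * (gen .z)⁻¹ = (gen .x ^ 2)⁻¹ := by
      have hzz : (gen .z)⁻¹ = gen .z := inv_eq_of_mul_eq_one_right (by rw [← pow_two]; exact r7)
      have h1 : gen .z * gen .x * (gen .z)⁻¹ = (gen .x)⁻¹ := by
        rw [hzz, eq_inv_iff_mul_eq_one]
        calc gen .z * gen .x * gen .z * gen .x = (gen .z * gen .x) ^ 2 := by rw [pow_two]; simp [mul_assoc]
          _ = 1 := r8
      rw [← conj_pow, h1, inv_pow]
    rintro h ⟨w, hw, rfl⟩
    induction hw using Subgroup.closure_induction with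
    | mem w hw =>
      rcases hw with rfl | rfl | rfl
      · exact Or.inl (by show gen .x * gen .x ^ 2 * (gen .x)⁻¹ = _; group)
      · exact Or.inr hy2
      · exact Or.inr hz2
    | one => exact Or.inl (by simp)
    | mul a b _ _ ha hb =>
      rw [map_mul, mul_inv_rev, show ∀ p q : Spor.HN, p * q * gen .x ^ 2 * (q⁻¹ * p⁻¹) = p * (q * gen .x ^ 2 * q⁻¹) * p⁻¹ from
        fun p q => by simp [mul_assoc]]
      rcases hb with hb | hb <;> rw [hb]
      · exact ha
      · rw [← conj_inv]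
        rcases ha with ha | ha <;> rw [ha] <;> simp
    | inv a _ ha =>
      rw [map_inv, inv_inv]
      rcases ha with ha | ha
      · left; conv_lhs => rw [← ha]; simp [mul_assoc]
      · right
        have h' : (PresentedGroup.mk _ a) * (gen .x ^ 2)⁻¹ * (PresentedGroup.mk _ a)⁻¹ = gen .x ^ 2 := by
          rw [← conj_inv, ha, inv_inv]
        conv_lhs => rw [← h']; simp [mul_assoc]
  have hfour : gen .x ^ 4 = 1 := by
    let C : Subgroup ↥Kg := (Subgroup.centralizer ({gen .x ^ 2} : Set Spor.HN)).subgroupOf Kg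
    have hle : _root_.commutator ↥Kg ≤ C := by
      rw [commutator_def, Subgroup.commutator_le]
      intro a _ b _
      rw [Subgroup.mem_subgroupOf, Subgroup.mem_centralizer_singleton_iff]
      have ha3 : (a : Spor.HN) ∈ three := by obtain ⟨c, _, hc⟩ := a.2; rw [← hc]; exact c.2
      have hb3 : (b : Spor.HN) ∈ three := by obtain ⟨c, _, hc⟩ := b.2; rw [← hc]; exact c.2
      have k1 := hconj _ ha3
      have k2 := hconj _ hb3
      have k3 := hconj _ (inv_mem ha3)
      have k4 := hconj _ (inv_mem hb3)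
      rw [inv_inv] at k3 k4
      show ((⁅a, b⁆ : ↥Kg) : Spor.HN) * gen .x ^ 2 = gen .x ^ 2 * ((⁅a, b⁆ : ↥Kg) : Spor.HN)
      rw [← mul_inv_eq_iff_eq_mul]
      simp only [commutatorElement_def, Subgroup.coe_mul, InvMemClass.coe_inv]
      set u := (a : Spor.HN)
      set v := (b : Spor.HN)
      have e : u * v * u⁻¹ * v⁻¹ * gen .x ^ 2 * (u * v * u⁻¹ * v⁻¹)⁻¹ =
          u * (v * (u⁻¹ * (v⁻¹ * gen .x ^ 2 * v) * u) * v⁻¹) * u⁻¹ := by simp [mul_assoc]
      rw [e]
      have ci : ∀ p q r : Spor.HN, p * q * p⁻¹ = r → p * q⁻¹ * p⁻¹ = r⁻¹ := fun p q r h => by rw [← h, conj_inv]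
      have ci' : ∀ p q r : Spor.HN, p⁻¹ * q * p = r → p⁻¹ * q⁻¹ * p = r⁻¹ := fun p q r h => by
        rw [← h]; simp [mul_assoc]
      have inv1 : ∀ p, p * gen .x ^ 2 * p⁻¹ = gen .x ^ 2 → p⁻¹ * gen .x ^ 2 * p = gen .x ^ 2 := fun p h => by
        conv_lhs => rw [← h]; simp [mul_assoc]
      have inv2 : ∀ p, p * gen .x ^ 2 * p⁻¹ = (gen .x ^ 2)⁻¹ → p⁻¹ * gen .x ^ 2 * p = (gen .x ^ 2)⁻¹ := fun p h => by
        have h' := ci _ _ _ h
        rw [inv_inv] at h'
        conv_lhs => rw [← h']; simp [mul_assoc]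
      rcases k1 with h1 | h1 <;> rcases k2 with h2 | h2
      · rw [inv1 v h2, inv1 u h1, h2, h1]
      · rw [inv2 v h2, ci' u _ _ (inv1 u h1), ci v _ _ h2, inv_inv, h1]
      · rw [inv1 v h2, inv2 u h1, ci v _ _ h2, ci u _ _ h1, inv_inv]
      · rw [inv2 v h2, ci' u _ _ (inv2 u h1), inv_inv, h2, ci u _ _ h1, inv_inv]
    have hym : (⟨gen .y, ⟨yh, hyk, rfl⟩⟩ : ↥Kg) ∈ C := hle (hKperf ▸ Subgroup.mem_top _)
    rw [Subgroup.mem_subgroupOf, Subgroup.mem_centralizer_singleton_iff] at hym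
    have hy2 : gen .y * gen .x ^ 2 * (gen .y)⁻¹ = (gen .x ^ 2)⁻¹ := by
      rw [eq_inv_iff_mul_eq_one, mul_eq_one_comm]
      simpa [mul_assoc] using r2
    rw [hym, mul_inv_cancel_right, eq_inv_iff_mul_eq_one, ← pow_add] at hy2
    exact hy2
  refine ⟨⟨Spor.HN, inferInstance, inferInstance, MonoidHom.id _, ⟨fun x => ⟨x, rfl⟩, ?_, ?_⟩, ⟨?_⟩⟩,
    fun Γ _ _ σ hσ => ⟨1, ?_⟩⟩
  · simp
  · simp
  · have : Subsingleton (MonoidHom.id Spor.HN).ker := by rw [MonoidHom.ker_id]; infer_instance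
    exact { toFun := fun _ => 1, invFun := fun _ => 1, left_inv := fun _ => Subsingleton.elim _ _,
            right_inv := fun _ => Subsingleton.elim _ _, map_mul' := fun _ _ => (one_mul _).symm }
  · obtain ⟨s, hs⟩ := exists_section σ hσ.1 hσ.2.1 Kg hKperf fun D _ _ π hπ hπc hD => by
      have h := huniv D (eK.symm.toMonoidHom.comp π) (eK.symm.surjective.comp hπ)
        (by
          have hk : (eK.symm.toMonoidHom.comp π).ker = π.ker := by
            ext d; simp [MonoidHom.mem_ker]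
          rw [hk]; exact hπc) hD
      intro a b hab
      exact h (by simp [hab])
    have hzK : ∀ k ∈ Kg, gen .z * k * (gen .z)⁻¹ ∈ Kg := by
      rintro k ⟨c, hc, rfl⟩
      exact ⟨zh * c * zh⁻¹, hn.conj_mem c hc zh, rfl⟩
    obtain ⟨f, hf⟩ := exists_hom σ hσ.1 hσ.2.1 Kg ⟨xh, hxk, rfl⟩ ⟨yh, hyk, rfl⟩ hzK hKperf hfour s hs
    have hdec : ∀ g : Γ, g * (f (σ g))⁻¹ ∈ σ.ker := fun g => by
      rw [MonoidHom.mem_ker, map_mul, map_inv]
      rw [show σ (f (σ g)) = σ g from DFunLike.congr_fun hf (σ g), mul_inv_cancel]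
    have hle : _root_.commutator Γ ≤ f.range := by
      rw [commutator_def, Subgroup.commutator_le]
      intro a _ b _
      obtain ⟨c, hc, ea⟩ : ∃ c ∈ σ.ker, a = c * f (σ a) := ⟨_, hdec a, by simp⟩
      obtain ⟨d, hd, eb⟩ : ∃ d ∈ σ.ker, b = d * f (σ b) := ⟨_, hdec b, by simp⟩
      refine ⟨⁅σ a, σ b⁆, ?_⟩
      rw [map_commutatorElement]
      have cc := Subgroup.mem_center_iff.1 (hσ.2.1 hc)
      have cd := Subgroup.mem_center_iff.1 (hσ.2.1 hd)
      conv_rhs => rw [ea, eb]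
      set p := f (σ a)
      set q := f (σ b)
      simp only [commutatorElement_def, mul_inv_rev]
      calc p * q * p⁻¹ * q⁻¹ = c * (p * q * p⁻¹) * c⁻¹ * q⁻¹ := by rw [← cc, mul_inv_cancel_right]
        _ = c * p * (d * q) * (p⁻¹ * c⁻¹) * (q⁻¹ * d⁻¹) := by
          rw [← cd q, show c * p * (q * d) * (p⁻¹ * c⁻¹) * (q⁻¹ * d⁻¹) =
            c * p * q * (d * (p⁻¹ * (c⁻¹ * q⁻¹))) * d⁻¹ by simp [mul_assoc], ← cd]
          simp [mul_assoc]
    intro y
    refine ⟨1, Subtype.ext ?_⟩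
    obtain ⟨g, hg⟩ := hle (hσ.2.2 y.2)
    have h1 : g = 1 := by
      have h2 := congrArg σ hg
      rw [MonoidHom.mem_ker.1 y.2] at h2
      rwa [show σ (f g) = g from DFunLike.congr_fun hf g] at h2
    show (1 : Γ) = (y : Γ)
    rw [← hg, h1, map_one]

end CfsgLib.HNMult
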